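import Groth.Prelude.Def_GrSeg
import Groth.Prelude.Def_GrLC
import Mathlib.LinearAlgebra.Dual.Lemmas
import Mathlib.LinearAlgebra.FiniteDimensional.Lemmas
import Mathlib.RingTheory.Artinian.Module
import Mathlib.RingTheory.Noetherian.Basic
import Mathlib.RingTheory.FiniteType

/-!
# Graded modules over a positively graded `k`-algebra and their graded duals
-/

set_option linter.unusedSectionVars false

universe u

namespace Groth.Agent.GrDual

open DirectSum

section Graded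

variable {M : Type u} [AddCommGroup M] {τ : Type u} [SetLike τ M] [AddSubgroupClass τ M]
  (ℳ : ℤ → τ) [DirectSum.Decomposition ℳ]

/-- The homogeneous component of degree `n`, as an additive map. -/
def pr (n : ℤ) : M →+ M where
  toFun x := (DirectSum.decompose ℳ x n : M)
  map_zero' := by simp
  map_add' x y := by simp

lemma pr_mem (n : ℤ) (x : M) : pr ℳ n x ∈ ℳ n := (DirectSum.decompose ℳ x n).2

lemma pr_of_mem {n : ℤ} {x : M} (hx : x ∈ ℳ n) : pr ℳ n x = x := DirectSum.decompose_of_mem_same ℳ hx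

lemma pr_of_ne {i n : ℤ} {x : M} (hx : x ∈ ℳ i) (h : i ≠ n) : pr ℳ n x = 0 :=
  DirectSum.decompose_of_mem_ne ℳ hx h

lemma pr_pr (i n : ℤ) (x : M) : pr ℳ n (pr ℳ i x) = if i = n then pr ℳ n x else 0 := by
  split
  · subst i; exact pr_of_mem ℳ (pr_mem ℳ n x)
  · exact pr_of_ne ℳ (pr_mem ℳ i x) ‹_›

/-- The support of an element. -/
noncomputable def supp (x : M) : Finset ℤ := by classical exact DFinsupp.support (DirectSum.decompose ℳ x)

lemma sum_supp (x : M) : ∑ n ∈ supp ℳ x, pr ℳ n x = x := by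
  classical
  exact DirectSum.sum_support_decompose ℳ x

lemma pr_eq_zero_of_notMem {x : M} {n : ℤ} (h : n ∉ supp ℳ x) : pr ℳ n x = 0 := by
  classical
  have : DirectSum.decompose ℳ x n = 0 := by
    by_contra h'
    exact h (DFinsupp.mem_support_iff.mpr h')
  show ((DirectSum.decompose ℳ x n : ℳ n) : M) = 0
  rw [this]; rfl

lemma eq_zero_of_pr {x : M} (h : ∀ n, pr ℳ n x = 0) : x = 0 := by
  rw [← sum_supp ℳ x]; exact Finset.sum_eq_zero fun n _ => h n

lemma eq_of_pr {x y : M} (h : ∀ n, pr ℳ n x = pr ℳ n y) : x = y :=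
  sub_eq_zero.mp (eq_zero_of_pr ℳ fun n => by rw [map_sub, h n, sub_self])

lemma mem_of_pr {x : M} {n : ℤ} (h : ∀ i, i ≠ n → pr ℳ i x = 0) : x ∈ ℳ n := by
  have : x = pr ℳ n x := eq_of_pr ℳ fun i => by
    rw [pr_pr]; split
    · next h' => subst h'; rfl
    · next h' => exact h i (Ne.symm h')
  rw [this]; exact pr_mem ℳ n x

lemma pr_map {N : Type u} [AddCommGroup N] {τ' : Type u} [SetLike τ' N] [AddSubgroupClass τ' N]
    (𝒩 : ℤ → τ') [DirectSum.Decomposition 𝒩] (f : M →+ N) (s : ℤ)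
    (hf : ∀ (g : ℤ) (m : M), m ∈ ℳ g → f m ∈ 𝒩 (g + s)) (n : ℤ) (x : M) :
    f (pr ℳ n x) = pr 𝒩 (n + s) (f x) := by
  induction x using DirectSum.Decomposition.inductionOn ℳ with
  | zero => simp
  | homogeneous m =>
    rename_i i
    rcases eq_or_ne i n with h | h
    · subst h; rw [pr_of_mem ℳ m.2, pr_of_mem 𝒩 (hf i _ m.2)]
    · rw [pr_of_ne ℳ m.2 h, pr_of_ne 𝒩 (hf i _ m.2) (fun e => h (by omega)), map_zero]
  | add a b ha hb => simp only [map_add, ha, hb]

end Graded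

section Module

variable {k : Type u} [Field k] {R : Type u} [CommRing R] [Algebra k R] {𝒜 : ℤ → Submodule k R} [GradedAlgebra 𝒜]
variable {M : Type u} [AddCommGroup M] [Module R M] {τ : Type u} [SetLike τ M] [AddSubgroupClass τ M]
  {ℳ : ℤ → τ} [DirectSum.Decomposition ℳ] [SetLike.GradedSMul 𝒜 ℳ]

lemma smul_mem {a b : ℤ} {r : R} (hr : r ∈ 𝒜 a) {x : M} (hx : x ∈ ℳ b) : r • x ∈ ℳ (a + b) :=
  SetLike.GradedSMul.smul_mem (A := 𝒜) (B := ℳ) hr hx

lemma pr_smul {a : ℤ} {r : R} (hr : r ∈ 𝒜 a) (n : ℤ) (x : M) :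
    pr ℳ n (r • x) = r • pr ℳ (n - a) x := by
  have := pr_map ℳ ℳ (DistribSMul.toAddMonoidHom M r) a
    (fun g m hm => add_comm a g ▸ smul_mem (𝒜 := 𝒜) hr hm) (n - a) x
  rw [sub_add_cancel] at this
  exact this.symm

variable [Module k M] [IsScalarTower k R M]

include 𝒜 in
lemma ksmul_mem (c : k) {n : ℤ} {x : M} (hx : x ∈ ℳ n) : c • x ∈ ℳ n := by
  have h := smul_mem (𝒜 := 𝒜) (ℳ := ℳ) (SetLike.algebraMap_mem_graded 𝒜 c) hx
  rwa [zero_add, algebraMap_smul] at h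

include 𝒜 in
lemma pr_ksmul (c : k) (n : ℤ) (x : M) : pr ℳ n (c • x) = c • pr ℳ n x := by
  have := pr_smul (ℳ := ℳ) (SetLike.algebraMap_mem_graded 𝒜 c) n x
  rwa [algebraMap_smul, sub_zero, algebraMap_smul] at this

variable (𝒜) (ℳ) in
/-- A piece as a `k`-subspace. -/
def piece (n : ℤ) : Submodule k M where
  carrier := (ℳ n : Set M)
  add_mem' := add_mem
  zero_mem' := zero_mem _
  smul_mem' c _ hx := ksmul_mem (𝒜 := 𝒜) c hx

variable (𝒜) (ℳ) in
/-- The component as a `k`-linear map. -/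
def prL (n : ℤ) : M →ₗ[k] M where
  toFun := pr ℳ n
  map_add' := map_add _
  map_smul' c x := pr_ksmul (𝒜 := 𝒜) c n x

omit [GradedAlgebra 𝒜] [Module k M] [IsScalarTower k R M] [SetLike.GradedSMul 𝒜 ℳ] in
lemma eq_zero_of_neg (hposR : ∀ n : ℤ, n < 0 → 𝒜 n = ⊥) {a : ℤ} (ha : a < 0) {r : R} (hr : r ∈ 𝒜 a) : r = 0 := by
  rw [hposR a ha] at hr; exact (Submodule.mem_bot k).mp hr

variable (hposR : ∀ n : ℤ, n < 0 → 𝒜 n = ⊥) (h0R : 𝒜 0 = Submodule.span k {(1 : R)})

/-- Elements in degrees `≥ n` whose degree `n` component lies in a given subspace. -/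
def upper (n : ℤ) (U : Submodule k M) : Submodule R M where
  carrier := {x | (∀ i, i < n → pr ℳ i x = 0) ∧ pr ℳ n x ∈ U}
  add_mem' {a b} ha hb := ⟨fun i hi => by rw [map_add, ha.1 i hi, hb.1 i hi, add_zero],
    by rw [map_add]; exact U.add_mem ha.2 hb.2⟩
  zero_mem' := ⟨fun i _ => map_zero _, by rw [map_zero]; exact U.zero_mem⟩
  smul_mem' r x hx := by
    induction r using DirectSum.Decomposition.inductionOn 𝒜 with
    | zero => exact ⟨fun i _ => by simp, by simp⟩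
    | add a b ha hb =>
      refine ⟨fun i hi => by rw [add_smul, map_add, ha.1 i hi, hb.1 i hi, add_zero], ?_⟩
      rw [add_smul, map_add]; exact U.add_mem ha.2 hb.2
    | homogeneous r =>
      rename_i a
      obtain ⟨r, hr⟩ := r
      show _ ∧ _
      simp only []
      rcases lt_trichotomy a 0 with ha | ha | ha
      · rw [eq_zero_of_neg hposR ha hr]
        exact ⟨fun i _ => by simp, by simp⟩
      · subst ha
        refine ⟨fun i hi => by rw [pr_smul hr, sub_zero, hx.1 i hi, smul_zero], ?_⟩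
        rw [pr_smul hr, sub_zero]
        rw [h0R, Submodule.mem_span_singleton] at hr
        obtain ⟨c, rfl⟩ := hr
        show (c • (1 : R)) • _ ∈ U
        rw [smul_assoc, one_smul]; exact U.smul_mem c hx.2
      · refine ⟨fun i hi => by rw [pr_smul hr, hx.1 _ (by omega), smul_zero], ?_⟩
        rw [pr_smul hr, hx.1 _ (by omega), smul_zero]; exact U.zero_mem

lemma upper_strictMono (n : ℤ) :
    StrictMono fun U : Submodule k (piece 𝒜 ℳ n) => upper hposR h0R (ℳ := ℳ) n (U.map (piece 𝒜 ℳ n).subtype) := by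
  refine Monotone.strictMono_of_injective (fun U V h x hx => ⟨hx.1, Submodule.map_mono h hx.2⟩) fun U V h => ?_
  ext ⟨x, hx⟩
  have key : ∀ W : Submodule k (piece 𝒜 ℳ n),
      x ∈ upper hposR h0R (ℳ := ℳ) n (W.map (piece 𝒜 ℳ n).subtype) ↔ (⟨x, hx⟩ : piece 𝒜 ℳ n) ∈ W := by
    intro W
    constructor
    · rintro ⟨-, hW⟩
      rw [pr_of_mem ℳ hx] at hW
      obtain ⟨y, hy, hyx⟩ := hW
      rwa [show y = ⟨x, hx⟩ from Subtype.ext hyx] at hy
    · intro hW
      exact ⟨fun i hi => pr_of_ne ℳ hx (by omega), by rw [pr_of_mem ℳ hx]; exact ⟨_, hW, rfl⟩⟩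
  exact (key U).symm.trans ((iff_of_eq (congrArg (x ∈ ·) h)).trans (key V))

include hposR h0R in
theorem finite_piece_of_noetherian [IsNoetherian R M] (n : ℤ) : FiniteDimensional k (piece 𝒜 ℳ n) := by
  have : IsNoetherian k (piece 𝒜 ℳ n) :=
    isNoetherian_iff'.mpr (upper_strictMono (ℳ := ℳ) hposR h0R n).wellFoundedGT
  infer_instance

include hposR h0R in
theorem finite_piece_of_artinian [IsArtinian R M] (n : ℤ) : FiniteDimensional k (piece 𝒜 ℳ n) := by
  have hw : WellFoundedLT (Submodule k (piece 𝒜 ℳ n)) :=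
    (upper_strictMono (ℳ := ℳ) hposR h0R n).wellFoundedLT
  have : IsArtinian k (piece 𝒜 ℳ n) := hw
  let b := Module.Basis.ofVectorSpace k (piece 𝒜 ℳ n)
  have hfin := IsArtinian.finite_of_linearIndependent (Module.Basis.ofVectorSpaceIndex.linearIndependent k (piece 𝒜 ℳ n))
  have := hfin.to_subtype
  exact Module.Finite.of_basis b

include hposR h0R in
theorem exists_lower_bound [IsNoetherian R M] : ∃ b : ℤ, ∀ n, n < b → ∀ x ∈ ℳ n, x = 0 := by
  let F : ℕ →o Submodule R M := ⟨fun j => upper hposR h0R (ℳ := ℳ) (-(j : ℤ)) ⊤,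
    fun i j hij x hx => ⟨fun a ha => hx.1 a (by omega), trivial⟩⟩
  obtain ⟨N, hN⟩ := monotone_stabilizes_iff_noetherian.mpr ‹_› F
  refine ⟨-(N : ℤ), fun n hn x hx => ?_⟩
  have h1 : x ∈ F (-n).toNat := ⟨fun a ha => pr_of_ne ℳ hx (by omega), trivial⟩
  rw [← hN (-n).toNat (by omega)] at h1
  rw [← pr_of_mem ℳ hx]
  exact h1.1 n hn

include hposR h0R in
theorem exists_upper_bound [IsArtinian R M] : ∃ b : ℤ, ∀ n, b < n → ∀ x ∈ ℳ n, x = 0 := by
  let G : ℕ →o (Submodule R M)ᵒᵈ := ⟨fun j => OrderDual.toDual (upper hposR h0R (ℳ := ℳ) (j : ℤ) ⊤),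
    fun i j hij x hx => ⟨fun a ha => hx.1 a (by omega), trivial⟩⟩
  obtain ⟨N, hN⟩ := IsArtinian.monotone_stabilizes G
  refine ⟨(N : ℤ), fun n hn x hx => ?_⟩
  have h1 : x ∈ upper hposR h0R (ℳ := ℳ) ((n.toNat : ℕ) : ℤ) ⊤ :=
    ⟨fun a ha => pr_of_ne ℳ hx (by omega), trivial⟩
  have e : G n.toNat = G (n.toNat + 1) := (hN _ (by omega)).symm.trans (hN _ (by omega))
  rw [show upper hposR h0R (ℳ := ℳ) ((n.toNat : ℕ) : ℤ) ⊤ =
    upper hposR h0R (ℳ := ℳ) ((n.toNat + 1 : ℕ) : ℤ) ⊤ from congrArg OrderDual.ofDual e] at h1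
  rw [← pr_of_mem ℳ hx]
  exact h1.1 n (by omega)

end Module

end Groth.Agent.GrDual
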