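import Groth.Agent.GrDual.Basic
import Mathlib.Tactic.Linarith

/-!
# Graded duals: nondegeneracy, biduality, adjoints, chain conditions
-/

set_option linter.unusedSectionVars false

universe u

namespace Groth.Agent.GrDual

open DirectSum

variable {k : Type u} [Field k] {R : Type u} [CommRing R] [Algebra k R] {𝒜 : ℤ → Submodule k R} [GradedAlgebra 𝒜]
variable {M : Type u} [AddCommGroup M] [Module R M] [Module k M] [IsScalarTower k R M]
  {τ : Type u} [SetLike τ M] [AddSubgroupClass τ M] {ℳ : ℤ → τ} [DirectSum.Decomposition ℳ] [SetLike.GradedSMul 𝒜 ℳ]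
variable {D : Type u} [AddCommGroup D] [Module R D] [Module k D] [IsScalarTower k R D]
  {τ' : Type u} [SetLike τ' D] [AddSubgroupClass τ' D] {𝒟 : ℤ → τ'} [DirectSum.Decomposition 𝒟] [SetLike.GradedSMul 𝒜 𝒟]
variable {β : D →ₗ[k] M →ₗ[k] k} (hD : GrSeg.IsGDual R ℳ 𝒟 β)

include hD

lemma beta_pr (n : ℤ) (d : D) (x : M) : β (pr 𝒟 n d) x = β d (pr ℳ (-n) x) := by
  induction d using DirectSum.Decomposition.inductionOn 𝒟 with
  | zero => simp
  | add a b ha hb => simp only [map_add, LinearMap.add_apply, ha, hb]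
  | homogeneous d =>
    rename_i i
    rcases eq_or_ne i n with h | h
    · subst h
      rw [pr_of_mem 𝒟 d.2]
      induction x using DirectSum.Decomposition.inductionOn ℳ with
      | zero => simp
      | add a b ha hb => simp only [map_add, ha, hb]
      | homogeneous x =>
        rename_i j
        rcases eq_or_ne j (-i) with h' | h'
        · subst h'; rw [pr_of_mem ℳ x.2]
        · rw [pr_of_ne ℳ x.2 h', map_zero, hD.vanish i d d.2 j h' x x.2]
    · rw [pr_of_ne 𝒟 d.2 h, map_zero, LinearMap.zero_apply,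
        hD.vanish i d d.2 (-n) (fun e => h (by omega)) _ (pr_mem ℳ _ x)]

lemma beta_injective : Function.Injective β := by
  rw [injective_iff_map_eq_zero]
  intro d hd
  refine eq_zero_of_pr 𝒟 fun n => hD.eq_zero n _ (pr_mem 𝒟 n d) fun x _ => ?_
  rw [beta_pr hD, hd]; rfl

lemma dual_mem_piece {n : ℤ} {d : D} (h : ∀ m, m ≠ -n → ∀ x ∈ ℳ m, β d x = 0) : d ∈ 𝒟 n :=
  mem_of_pr 𝒟 fun i hi => hD.eq_zero i _ (pr_mem 𝒟 i d) fun x hx => by
    rw [beta_pr hD, pr_of_mem ℳ hx]
    exact h (-i) (fun e => hi (by omega)) x hx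

lemma dual_bound {n : ℤ} (h : ∀ x ∈ ℳ (-n), x = 0) {d : D} (hd : d ∈ 𝒟 n) : d = 0 :=
  hD.eq_zero n d hd fun x hx => by rw [h x hx, map_zero]

include 𝒜

lemma exists_functional {n : ℤ} {x : M} (hx : pr ℳ n x ≠ 0) : ∃ d ∈ 𝒟 (-n), β d x ≠ 0 := by
  obtain ⟨g, hg⟩ : ∃ g : M →ₗ[k] k, g (pr ℳ n x) ≠ 0 := by
    by_contra h
    push Not at h
    exact hx ((Module.forall_dual_apply_eq_zero_iff k _).mp h)
  obtain ⟨d, hd, hdg⟩ := hD.exists_eq (-n) g
  refine ⟨d, hd, ?_⟩
  rw [← pr_of_mem 𝒟 hd, beta_pr hD, neg_neg, hdg _ (by rw [neg_neg]; exact pr_mem ℳ n x)]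
  exact hg

lemma eq_zero_of_beta {x : M} (h : ∀ d, β d x = 0) : x = 0 := by
  refine eq_zero_of_pr ℳ fun n => ?_
  by_contra hne
  obtain ⟨d, -, hd⟩ := exists_functional (𝒜 := 𝒜) hD hne
  exact hd (h d)

variable (hfin : ∀ n, FiniteDimensional k (piece 𝒜 ℳ n))
include hfin

lemma finite_dual_piece (n : ℤ) : FiniteDimensional k (piece 𝒜 𝒟 n) := by
  have := hfin (-n)
  refine FiniteDimensional.of_injective
    ((β.compl₂ (piece 𝒜 ℳ (-n)).subtype).comp (piece 𝒜 𝒟 n).subtype) ?_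
  rw [injective_iff_map_eq_zero]
  intro d hd
  exact Subtype.ext (hD.eq_zero n d d.2 fun x hx => LinearMap.congr_fun hd ⟨x, hx⟩)

/-- Biduality. -/
theorem flip : GrSeg.IsGDual R 𝒟 ℳ β.flip := by
  refine ⟨fun r x d => (hD.map_smul r d x).symm, fun n x hx m hm d hd => ?_, fun n x hx h => ?_, fun n g => ?_⟩
  · exact hD.vanish m d hd n (fun e => hm (by omega)) x hx
  · refine eq_zero_of_beta (𝒜 := 𝒜) hD fun d => ?_
    rw [← pr_of_mem ℳ hx, ← neg_neg n, ← beta_pr hD]
    exact h _ (pr_mem 𝒟 (-n) d)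
  · have := hfin n
    have := finite_dual_piece hD hfin (-n)
    let Φ : piece 𝒜 ℳ n →ₗ[k] Module.Dual k (piece 𝒜 𝒟 (-n)) :=
      (β.flip.compl₂ (piece 𝒜 𝒟 (-n)).subtype).comp (piece 𝒜 ℳ n).subtype
    let Ψ : piece 𝒜 𝒟 (-n) →ₗ[k] Module.Dual k (piece 𝒜 ℳ n) :=
      (β.compl₂ (piece 𝒜 ℳ n).subtype).comp (piece 𝒜 𝒟 (-n)).subtype
    have hΦ : Function.Injective Φ := by
      rw [injective_iff_map_eq_zero]
      intro x hx
      refine Subtype.ext (eq_zero_of_beta (𝒜 := 𝒜) hD fun d => ?_)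
      have e := beta_pr hD (-n) d x
      rw [neg_neg, pr_of_mem ℳ (show (x : M) ∈ ℳ n from x.2)] at e
      rw [← e]
      exact LinearMap.congr_fun hx ⟨_, pr_mem 𝒟 (-n) d⟩
    have hΨ : Function.Bijective Ψ := by
      constructor
      · rw [injective_iff_map_eq_zero]
        intro d hd
        exact Subtype.ext (hD.eq_zero (-n) d d.2 fun x hx => LinearMap.congr_fun hd ⟨x, by rwa [neg_neg] at hx⟩)
      · intro φ
        obtain ⟨G, hG⟩ := LinearMap.exists_extend φ
        obtain ⟨d, hd, hdG⟩ := hD.exists_eq (-n) G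
        refine ⟨⟨d, hd⟩, LinearMap.ext fun x => ?_⟩
        exact (hdG x (by rw [neg_neg]; exact x.2)).trans (LinearMap.congr_fun hG x)
    have hdim : Module.finrank k (piece 𝒜 ℳ n) = Module.finrank k (Module.Dual k (piece 𝒜 𝒟 (-n))) := by
      rw [Subspace.dual_finrank_eq, (LinearEquiv.ofBijective Ψ hΨ).finrank_eq, Subspace.dual_finrank_eq]
    obtain ⟨x, hx⟩ := (LinearMap.injective_iff_surjective_of_finrank_eq_finrank hdim).mp hΦ
      (g.comp (piece 𝒜 𝒟 (-n)).subtype)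
    exact ⟨x, x.2, fun d hd => LinearMap.congr_fun hx ⟨d, hd⟩⟩

omit hfin

section Adjoint

variable {E : Type u} [AddCommGroup E] [Module R E] [Module k E] [IsScalarTower k R E]
  {τE : Type u} [SetLike τE E] [AddSubgroupClass τE E] {ℰ : ℤ → τE} [DirectSum.Decomposition ℰ]

/-- Compatible graded families of functionals come from a unique map into the dual. -/
theorem adjoint (γ : E →ₗ[k] M →ₗ[k] k) (s : ℤ) (hγ : ∀ (r : R) (e : E) (x : M), γ (r • e) x = γ e (r • x))
    (hγv : ∀ (n : ℤ) (e : E), e ∈ ℰ n → ∀ m, m ≠ -(n + s) → ∀ x ∈ ℳ m, γ e x = 0) :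
    ∃ φ : E →ₗ[R] D, (∀ (n : ℤ) (e : E), e ∈ ℰ n → φ e ∈ 𝒟 (n + s)) ∧ ∀ e x, β (φ e) x = γ e x := by
  have hinj := beta_injective hD
  have hex : ∀ e, ∃ d, β d = γ e := by
    intro e
    induction e using DirectSum.Decomposition.inductionOn ℰ with
    | zero => exact ⟨0, by simp⟩
    | add a b ha hb =>
      obtain ⟨d, hd⟩ := ha
      obtain ⟨d', hd'⟩ := hb
      exact ⟨d + d', by rw [map_add, map_add, hd, hd']⟩
    | homogeneous e =>
      rename_i n
      obtain ⟨d, hd, hdg⟩ := hD.exists_eq (n + s) (γ e)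
      refine ⟨d, LinearMap.ext fun x => ?_⟩
      induction x using DirectSum.Decomposition.inductionOn ℳ with
      | zero => simp
      | add a b ha hb => simp only [map_add, ha, hb]
      | homogeneous x =>
        rename_i m
        rcases eq_or_ne m (-(n + s)) with h | h
        · subst h; exact hdg x x.2
        · rw [hD.vanish _ d hd m h x x.2, hγv n e e.2 m h x x.2]
  choose φ hφ using hex
  refine ⟨{ toFun := φ, map_add' := fun a b => hinj (by rw [map_add, hφ, hφ, hφ, map_add]),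
            map_smul' := fun r a => hinj (LinearMap.ext fun x => by
              rw [hφ, RingHom.id_apply, hD.map_smul, hφ, hγ]) },
    fun n e he => dual_mem_piece hD fun m hm x hx => ?_, fun e x => LinearMap.congr_fun (hφ e) x⟩
  exact (LinearMap.congr_fun (hφ e) x).trans (hγv n e he m hm x hx)

end Adjoint

/-- The annihilator of a submodule of the dual. -/
def perp (N : Submodule R D) : Submodule R M where
  carrier := {x | ∀ d ∈ N, β d x = 0}
  add_mem' ha hb d hd := by rw [map_add, ha d hd, hb d hd, add_zero]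
  zero_mem' d _ := map_zero _
  smul_mem' r x hx d hd := by rw [← hD.map_smul]; exact hx _ (N.smul_mem r hd)

include hfin in
lemma le_of_perp_le {N N' : Submodule R D} (hN : ∀ n, ∀ d ∈ N, pr 𝒟 n d ∈ N) (h : perp hD N ≤ perp hD N') :
    N' ≤ N := by
  intro d hd
  rw [← sum_supp 𝒟 d]
  refine N.sum_mem fun n _ => ?_
  by_contra hn
  have := finite_dual_piece (𝒜 := 𝒜) hD hfin n
  let U : Submodule k (piece 𝒜 𝒟 n) := (N.restrictScalars k).comap (piece 𝒜 𝒟 n).subtype
  obtain ⟨ψ, hψ, hψU⟩ := Submodule.exists_dual_map_eq_bot_of_notMem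
    (p := U) (x := (⟨pr 𝒟 n d, pr_mem 𝒟 n d⟩ : piece 𝒜 𝒟 n)) hn inferInstance
  obtain ⟨G, hG⟩ := LinearMap.exists_extend ψ
  obtain ⟨x, hx, hxG⟩ := (flip (𝒜 := 𝒜) hD hfin).exists_eq (-n) G
  have hval : ∀ e, β e x = ψ ⟨pr 𝒟 n e, pr_mem 𝒟 n e⟩ := fun e => by
    rw [← pr_of_mem ℳ hx, ← beta_pr hD]
    exact (hxG _ (by rw [neg_neg]; exact pr_mem 𝒟 n e)).trans (LinearMap.congr_fun hG ⟨_, pr_mem 𝒟 n e⟩)
  have hxN : x ∈ perp hD N := fun e he => by
    rw [hval]
    have : ψ ⟨pr 𝒟 n e, pr_mem 𝒟 n e⟩ ∈ U.map ψ := ⟨_, hN n e he, rfl⟩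
    rwa [hψU, Submodule.mem_bot] at this
  exact hψ (by rw [← hval]; exact h hxN d hd)

omit hfin hD in
/-- Components of smallest weight `s * degree`. -/
def IsLow (s : ℤ) (n : ℤ) (d : D) : Prop := ∀ i, s * i < s * n → pr 𝒟 i d = 0

omit hfin hD in
/-- The homogeneous submodule of extreme components. -/
def lead (s : ℤ) (N : Submodule R D) : Submodule R D where
  carrier := {x | ∀ n, ∃ d ∈ N, (∀ i, s * i < s * n → pr 𝒟 i d = 0) ∧ pr 𝒟 n d = pr 𝒟 n x}
  add_mem' {a b} ha hb n := by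
    obtain ⟨d, hd, hl, he⟩ := ha n
    obtain ⟨d', hd', hl', he'⟩ := hb n
    exact ⟨d + d', N.add_mem hd hd', fun i hi => by rw [map_add, hl i hi, hl' i hi, add_zero],
      by rw [map_add, map_add, he, he']⟩
  zero_mem' n := ⟨0, N.zero_mem, fun i _ => map_zero _, rfl⟩
  smul_mem' r x hx n := by
    induction r using DirectSum.Decomposition.inductionOn 𝒜 generalizing n with
    | zero => exact ⟨0, N.zero_mem, fun i _ => map_zero _, by simp⟩
    | add a b ha hb =>
      obtain ⟨d, hd, hl, he⟩ := ha n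
      obtain ⟨d', hd', hl', he'⟩ := hb n
      exact ⟨d + d', N.add_mem hd hd', fun i hi => by rw [map_add, hl i hi, hl' i hi, add_zero],
        by rw [map_add, add_smul, map_add, he, he']⟩
    | homogeneous r =>
      rename_i a
      obtain ⟨d, hd, hl, he⟩ := hx (n - a)
      refine ⟨(r : R) • d, N.smul_mem _ hd, fun i hi => ?_, ?_⟩
      · rw [pr_smul r.2, hl (i - a) (by rw [mul_sub, mul_sub]; omega), smul_zero]
      · rw [pr_smul r.2, pr_smul r.2, he]

omit hfin hD in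
lemma lead_pr (s : ℤ) (N : Submodule R D) (m : ℤ) {x : D} (hx : x ∈ lead (𝒜 := 𝒜) (𝒟 := 𝒟) s N) :
    pr 𝒟 m x ∈ lead (𝒜 := 𝒜) (𝒟 := 𝒟) s N := fun n => by
  rw [pr_pr]
  split
  · exact hx n
  · exact ⟨0, N.zero_mem, fun i _ => map_zero _, map_zero _⟩

omit hfin hD in
lemma eq_of_lead_eq (s : ℤ) (hs : s * s = 1) (b : ℤ) (hb : ∀ n, b < s * n → ∀ d ∈ 𝒟 n, d = 0)
    {N N' : Submodule R D} (hle : N ≤ N')
    (h : lead (𝒜 := 𝒜) (𝒟 := 𝒟) s N' ≤ lead (𝒜 := 𝒜) (𝒟 := 𝒟) s N) : N = N' := by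
  refine le_antisymm hle fun d hd => ?_
  have key : ∀ (j : ℕ), ∀ d ∈ N', (∀ i, s * i < b + 1 - j → pr 𝒟 i d = 0) → d ∈ N := by
    intro j
    induction j with
    | zero =>
      intro d _ h0
      have : d = 0 := eq_zero_of_pr 𝒟 fun i => by
        rcases lt_or_ge (s * i) (b + 1) with hi | hi
        · exact h0 i (by simpa using hi)
        · exact hb i (by omega) _ (pr_mem 𝒟 i d)
      rw [this]; exact N.zero_mem
    | succ j ih =>
      intro d hd h0
      have hsn : s * (s * (b - j)) = b - j := by rw [← mul_assoc, hs, one_mul]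
      have hmem : pr 𝒟 (s * (b - j)) d ∈ lead (𝒜 := 𝒜) (𝒟 := 𝒟) s N' := fun m => by
        rw [pr_pr]
        split
        · next e =>
          exact ⟨d, hd, fun i hi => h0 i (by rw [← e, hsn] at hi; push_cast; omega), rfl⟩
        · exact ⟨0, N'.zero_mem, fun i _ => map_zero _, map_zero _⟩
      obtain ⟨d', hd', hl', he'⟩ := h hmem (s * (b - j))
      rw [pr_pr, if_pos rfl] at he'
      have := ih (d - d') (N'.sub_mem hd (hle hd')) fun i hi => by
        rcases lt_or_ge (s * i) (b - j) with hi' | hi'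
        · rw [map_sub, h0 i (by push_cast; omega), hl' i (by rw [hsn]; exact hi'), sub_zero]
        · have : i = s * (b - j) := by
            have e : s * i = b - j := by omega
            rw [← e, ← mul_assoc, hs, one_mul]
          rw [map_sub, this, he', sub_self]
      have h2 := N.add_mem this hd'
      rwa [sub_add_cancel] at h2
  refine key (∑ i ∈ supp 𝒟 d, (b + 1 - s * i).natAbs) d hd fun i hi => pr_eq_zero_of_notMem 𝒟 fun hmem => ?_
  have := Finset.single_le_sum (f := fun i => (b + 1 - s * i).natAbs) (fun _ _ => Nat.zero_le _) hmem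
  omega

include hfin in
lemma perp_lead_strictMono (s : ℤ) (hs : s * s = 1) (b : ℤ) (hb : ∀ n, b < s * n → ∀ d ∈ 𝒟 n, d = 0) :
    StrictMono fun N : Submodule R D =>
      OrderDual.toDual (perp hD (lead (𝒜 := 𝒜) (𝒟 := 𝒟) s N)) := by
  intro N N' hlt
  have hmono : lead (𝒜 := 𝒜) (𝒟 := 𝒟) s N ≤ lead (𝒜 := 𝒜) (𝒟 := 𝒟) s N' := fun x hx n => by
    obtain ⟨d, hd, h2⟩ := hx n
    exact ⟨d, hlt.le hd, h2⟩
  refine lt_of_le_of_ne (fun x hx d hd => hx d (hmono hd)) fun he => hlt.ne ?_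
  exact eq_of_lead_eq (𝒜 := 𝒜) s hs b hb hlt.le (le_of_perp_le hD hfin
    (fun n _ hd => lead_pr s N n hd) (OrderDual.toDual.injective he).le)

omit hfin
variable (hposR : ∀ n : ℤ, n < 0 → 𝒜 n = ⊥) (h0R : 𝒜 0 = Submodule.span k {(1 : R)})

include hposR h0R in
theorem isArtinian_dual [IsNoetherian R M] : IsArtinian R D := by
  obtain ⟨b, hb⟩ := exists_lower_bound (M := M) (ℳ := ℳ) hposR h0R
  have hm := perp_lead_strictMono hD (finite_piece_of_noetherian (M := M) (ℳ := ℳ) hposR h0R) 1 (one_mul 1) (-b)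
    (fun n hn d hd => dual_bound hD (fun x hx => hb (-n) (by omega) x hx) hd)
  have : WellFoundedLT (Submodule R M)ᵒᵈ := by
    have := isNoetherian_iff'.mp (‹_› : IsNoetherian R M)
    infer_instance
  exact hm.wellFoundedLT

include hposR h0R in
theorem isNoetherian_dual [IsArtinian R M] : IsNoetherian R D := by
  obtain ⟨b, hb⟩ := exists_upper_bound (M := M) (ℳ := ℳ) hposR h0R
  have hm := perp_lead_strictMono hD (finite_piece_of_artinian (M := M) (ℳ := ℳ) hposR h0R) (-1) (by norm_num) b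
    (fun n hn d hd => dual_bound hD (fun x hx => hb (-n) (by omega) x hx) hd)
  have : WellFoundedGT (Submodule R M)ᵒᵈ := by
    have : WellFoundedLT (Submodule R M) := ‹IsArtinian R M›
    infer_instance
  exact isNoetherian_iff'.mpr hm.wellFoundedGT

end Groth.Agent.GrDual
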